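import Groth.Agent.ModSiteHom.Acyclic
import Mathlib

/-!
Injective sheaves of modules over a constant ring are acyclic as abelian sheaves.
-/

set_option autoImplicit false
set_option backward.isDefEq.respectTransparency false
set_option backward.isDefEq.respectTransparency.types false
set_option linter.style.haveILetI false
set_option linter.unusedSectionVars false

universe t w v u

open CategoryTheory CategoryTheory.Limits CategoryTheory.Abelian Opposite TensorProduct

noncomputable section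

namespace Groth.Agent.ModCstAcyc

variable {C : Type v} [Category.{w} C] {J : GrothendieckTopology C}

section TorsionFree

variable [HasSheafify J AddCommGrpCat.{u}]

theorem torsionFree_free (K : Cᵒᵖ ⥤ Type u) :
    ModSiteHom.TorsionFree (K ⋙ AddCommGrpCat.free.{u}) := by
  intro n hn
  haveI : ∀ U, Mono ((n • 𝟙 (K ⋙ AddCommGrpCat.free.{u})).app U) := fun U => by
    rw [AddCommGrpCat.mono_iff_injective]
    intro a b hab
    change n • (show FreeAbelianGroup (K.obj U) from a) = n • (show FreeAbelianGroup (K.obj U) from b) at hab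
    haveI : IsAddTorsionFree (FreeAbelianGroup (K.obj U)) :=
      (FreeAbelianGroup.equivFinsupp (K.obj U)).injective.isAddTorsionFree _
    exact nsmul_right_injective (M := FreeAbelianGroup (K.obj U)) hn hab
  exact NatTrans.mono_of_mono_app _

theorem torsionFree_freeSheaf (K : Cᵒᵖ ⥤ Type u) :
    ModSiteHom.TorsionFree ((presheafToSheaf J AddCommGrpCat.{u}).obj (K ⋙ AddCommGrpCat.free.{u})) :=
  ModSiteHom.TorsionFree.map _ (torsionFree_free K)

theorem exists_epi_torsionFree (X : Sheaf J AddCommGrpCat.{u}) :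
    ∃ (T : Sheaf J AddCommGrpCat.{u}) (π : T ⟶ X), Epi π ∧ ModSiteHom.TorsionFree T := by
  let c := (AddCommGrpCat.adj.{u}.whiskerRight Cᵒᵖ).counit.app X.obj
  let P : Cᵒᵖ ⥤ AddCommGrpCat.{u} := (X.obj ⋙ forget AddCommGrpCat.{u}) ⋙ AddCommGrpCat.free.{u}
  haveI : ∀ U, Epi (c.app U) := fun U => by
    rw [AddCommGrpCat.epi_iff_surjective]
    intro x
    refine ⟨FreeAbelianGroup.of x, ?_⟩
    exact FreeAbelianGroup.lift_apply_of _ _
  haveI : Epi c := NatTrans.epi_of_epi_app _
  haveI : Epi ((presheafToSheaf J AddCommGrpCat.{u}).map c) :=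
    (presheafToSheaf J AddCommGrpCat.{u}).map_epi c
  exact ⟨(presheafToSheaf J _).obj P,
    (presheafToSheaf J _).map c ≫ (sheafificationAdjunction J AddCommGrpCat.{u}).counit.app X,
    epi_comp _ _, torsionFree_freeSheaf _⟩

/-- sections of a torsion free abelian sheaf form a flat abelian group -/
theorem flat_obj {P : Sheaf J AddCommGrpCat.{u}} (hP : ModSiteHom.TorsionFree P) (U : Cᵒᵖ) :
    Module.Flat ℤ (P.obj.obj U) := by
  rw [IsDedekindDomain.flat_iff_torsion_eq_bot, eq_bot_iff]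
  intro x hx
  obtain ⟨⟨a, ha⟩, hax⟩ := (Submodule.mem_torsion_iff x).mp hx
  have ha' : a ≠ 0 := nonZeroDivisors.ne_zero ha
  have hn : a.natAbs ≠ 0 := Int.natAbs_ne_zero.mpr ha'
  haveI := hP _ hn
  haveI : Mono ((sheafToPresheaf J AddCommGrpCat.{u}).map (a.natAbs • 𝟙 P)) := inferInstance
  have hmono : Mono (((sheafToPresheaf J AddCommGrpCat.{u}).map (a.natAbs • 𝟙 P)).app U) := inferInstance
  have hinj := (AddCommGrpCat.mono_iff_injective _).mp hmono
  have h0 : a.natAbs • x = 0 := by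
    rcases Int.natAbs_eq a with h | h
    · rw [← natCast_zsmul, ← h]
      exact hax
    · rw [← natCast_zsmul, show (a.natAbs : ℤ) = -a by omega, neg_zsmul]
      exact neg_eq_zero.mpr hax
  refine (Submodule.mem_bot ℤ).mpr (hinj ?_)
  rw [map_zero]
  exact h0

end TorsionFree

variable (Λ : Type u) [CommRing Λ]

/-- `U ↦ Λ ⊗_ℤ H(U)` -/
def ext (H : Cᵒᵖ ⥤ AddCommGrpCat.{u}) : Cᵒᵖ ⥤ ModuleCat.{u} Λ where
  obj U := ModuleCat.of Λ (Λ ⊗[ℤ] (H.obj U : Type u))
  map φ := ModuleCat.ofHom (TensorProduct.AlgebraTensorModule.lTensor Λ Λ (H.map φ).hom.toIntLinearMap)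
  map_id U := by
    ext h
    simp
  map_comp φ ψ := by
    ext h
    simp

variable {Λ}

/-- functoriality of `Λ ⊗_ℤ -` -/
def extMap {H H' : Cᵒᵖ ⥤ AddCommGrpCat.{u}} (t : H ⟶ H') : ext Λ H ⟶ ext Λ H' where
  app U := ModuleCat.ofHom (TensorProduct.AlgebraTensorModule.lTensor Λ Λ (t.app U).hom.toIntLinearMap)
  naturality U V φ := by
    refine ModuleCat.hom_ext (TensorProduct.AlgebraTensorModule.ext fun l h => ?_)
    exact congrArg (fun z => l ⊗ₜ[ℤ] z) (ConcreteCategory.congr_hom (t.naturality φ) h)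

/-- the linear map attached to an additive one -/
def extDesc {H : Cᵒᵖ ⥤ AddCommGrpCat.{u}} {M : Cᵒᵖ ⥤ ModuleCat.{u} Λ}
    (t : H ⟶ M ⋙ forget₂ (ModuleCat.{u} Λ) AddCommGrpCat.{u}) : ext Λ H ⟶ M where
  app U := ModuleCat.ofHom
    (show (Λ ⊗[ℤ] (H.obj U : Type u)) →ₗ[Λ] (M.obj U : Type u) from
      TensorProduct.AlgebraTensorModule.lift
        (LinearMap.toSpanSingleton Λ _ (show (H.obj U : Type u) →+ (M.obj U : Type u) from (t.app U).hom).toIntLinearMap))
  naturality U V φ := by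
    refine ModuleCat.hom_ext (TensorProduct.AlgebraTensorModule.ext fun l h => ?_)
    change l • (show (M.obj V : Type u) from (t.app V).hom (H.map φ h)) =
      (M.map φ).hom (l • (show (M.obj U : Type u) from (t.app U).hom h))
    rw [map_smul]
    exact congrArg (l • ·) (ConcreteCategory.congr_hom (t.naturality φ) h)

/-- `h ↦ 1 ⊗ h` -/
def extUnit (H : Cᵒᵖ ⥤ AddCommGrpCat.{u}) : H ⟶ ext Λ H ⋙ forget₂ (ModuleCat.{u} Λ) AddCommGrpCat.{u} where
  app U := AddCommGrpCat.ofHom (TensorProduct.mk ℤ Λ (H.obj U : Type u) 1).toAddMonoidHom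

/-- tensoring a mono with torsion free cokernel stays mono -/
theorem injective_extMap {H H' H'' : Cᵒᵖ ⥤ AddCommGrpCat.{u}} (t : H ⟶ H') (g : H' ⟶ H'') (U : Cᵒᵖ)
    (hinj : Function.Injective (t.app U)) (hex : Function.Exact (t.app U) (g.app U))
    (hflat : Module.Flat ℤ (H''.obj U)) : Function.Injective ((extMap (Λ := Λ) t).app U) := by
  let g' := (g.app U).hom.toIntLinearMap
  let t' := (t.app U).hom.toIntLinearMap
  haveI : Module.Flat ℤ (LinearMap.range g') := by
    rw [IsDedekindDomain.flat_iff_torsion_eq_bot, eq_bot_iff]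
    rintro ⟨x, hx'⟩ hx
    obtain ⟨a, ha⟩ := (Submodule.mem_torsion_iff _).mp hx
    refine (Submodule.mem_bot ℤ).mpr (Subtype.ext ?_)
    have : x ∈ Submodule.torsion ℤ (H''.obj U) :=
      (Submodule.mem_torsion_iff x).mpr ⟨a, congrArg Subtype.val ha⟩
    rw [Module.Flat.torsion_eq_bot] at this
    exact (Submodule.mem_bot ℤ).mp this
  have hex' : Function.Exact t' g'.rangeRestrict := fun x =>
    ⟨fun hx => (hex x).mp (congrArg Subtype.val hx), fun hx => Subtype.ext ((hex x).mpr hx)⟩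
  exact LinearMap.lTensor_injective_of_exact_of_flat g'.rangeRestrict g'.surjective_rangeRestrict
    t' hinj hex' Λ

variable [HasWeakSheafify J (ModuleCat.{u} Λ)] [HasSheafify J AddCommGrpCat.{u}]
  [J.HasSheafCompose (forget₂ (ModuleCat.{u} Λ) AddCommGrpCat.{u})]
  [PreservesFiniteLimits (presheafToSheaf J (ModuleCat.{u} Λ))]

theorem exists_retraction (I : Sheaf J (ModuleCat.{u} Λ)) [Injective I]
    (S : ShortComplex (Sheaf J AddCommGrpCat.{u})) (hS : S.ShortExact)
    (h₁ : S.X₁ = (sheafCompose J (forget₂ (ModuleCat.{u} Λ) AddCommGrpCat.{u})).obj I)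
    (h₃ : ModSiteHom.TorsionFree S.X₃) :
    ∃ r : S.X₂ ⟶ S.X₁, S.f ≫ r = 𝟙 S.X₁ := by
  haveI := hS.mono_f
  let i : S.X₁.obj ⟶ I.obj ⋙ forget₂ (ModuleCat.{u} Λ) AddCommGrpCat.{u} := (eqToHom h₁).hom
  have hinj : ∀ U, Function.Injective (S.f.hom.app U) := fun U => by
    haveI : Mono ((sheafToPresheaf J AddCommGrpCat.{u}).map S.f) := inferInstance
    exact (AddCommGrpCat.mono_iff_injective _).mp
      (inferInstanceAs (Mono (((sheafToPresheaf J AddCommGrpCat.{u}).map S.f).app U)))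
  have hex : ∀ U, Function.Exact (S.f.hom.app U) (S.g.hom.app U) := fun U => by
    let Ev := sheafToPresheaf J AddCommGrpCat.{u} ⋙ (evaluation _ _).obj U
    have : (S.map Ev).Exact := ShortComplex.exact_of_f_is_kernel _
      (KernelFork.mapIsLimit _ hS.fIsKernel Ev)
    exact (ShortComplex.ab_exact_iff_function_exact (S.map Ev)).mp this
  let b : ext Λ S.X₁.obj ⟶ ext Λ S.X₂.obj := extMap S.f.hom
  haveI : ∀ U, Mono (b.app U) := fun U => (ModuleCat.mono_iff_injective _).2
    (injective_extMap S.f.hom S.g.hom U (hinj U) (hex U) (flat_obj h₃ U))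
  haveI : Mono b := NatTrans.mono_of_mono_app b
  let L := presheafToSheaf J (ModuleCat.{u} Λ)
  let adj := sheafificationAdjunction J (ModuleCat.{u} Λ)
  haveI : Mono (L.map b) := L.map_mono b
  let c : L.obj (ext Λ S.X₂.obj) ⟶ I :=
    Injective.factorThru ((adj.homEquiv _ I).symm (extDesc i)) (L.map b)
  let a' : ext Λ S.X₂.obj ⟶ I.obj := adj.homEquiv _ I c
  have ha' : b ≫ a' = extDesc i := by
    refine (adj.homEquiv_naturality_left b c).symm.trans ?_
    rw [Injective.comp_factorThru]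
    exact (adj.homEquiv _ I).apply_symm_apply _
  let r' : S.X₂.obj ⟶ I.obj ⋙ forget₂ (ModuleCat.{u} Λ) AddCommGrpCat.{u} :=
    extUnit S.X₂.obj ≫ Functor.whiskerRight a' _
  have hr' : S.f.hom ≫ r' = i := by
    ext U h
    change (a'.app U).hom ((1 : Λ) ⊗ₜ[ℤ] (S.f.hom.app U h)) = i.app U h
    refine (ConcreteCategory.congr_hom (congrArg (fun m => NatTrans.app m U) ha') ((1 : Λ) ⊗ₜ[ℤ] h)).trans ?_
    exact one_smul Λ (show (I.obj.obj U : Type u) from (i.app U).hom h)
  refine ⟨(⟨r'⟩ : S.X₂ ⟶ (sheafCompose J (forget₂ (ModuleCat.{u} Λ) AddCommGrpCat.{u})).obj I) ≫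
    eqToHom h₁.symm, ?_⟩
  rw [← Category.assoc, ← cancel_mono (eqToHom h₁), Category.assoc, Category.assoc, eqToHom_trans, eqToHom_refl,
    Category.comp_id, Category.id_comp]
  exact Sheaf.hom_ext hr'

/-- **injective sheaves of modules have no higher `Ext` out of torsion free abelian sheaves** -/
theorem subsingleton_ext [EnoughInjectives (Sheaf J AddCommGrpCat.{u})]
    [HasExt.{t} (Sheaf J AddCommGrpCat.{u})]
    (I : Sheaf J (ModuleCat.{u} Λ)) [Injective I] (n : ℕ) (P : Sheaf J AddCommGrpCat.{u})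
    (hP : ModSiteHom.TorsionFree P) :
    Subsingleton (Ext P ((sheafCompose J (forget₂ (ModuleCat.{u} Λ) AddCommGrpCat.{u})).obj I) (n + 1)) :=
  ModSiteHom.subsingleton_ext_of_retraction exists_epi_torsionFree
    (fun S hS h₁ h₃ => exists_retraction I S hS h₁ h₃) n P hP

end Groth.Agent.ModCstAcyc
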